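import Cfsg.Agent.CoThreeStd.M12.Out

/-!
# A Frobenius group `3² : 8` in `M₁₂` with complement a full centralizer (helper635)
-/

set_option autoImplicit false

namespace Cfsg.Agent.H635.CJ.MTwelve

open Equiv Cfsg Cfsg.Agent.CoThreeStd.M12 Cfsg.Agent.CoThreeStd.M12.Out

/-- an element of cycle type `(8, 2, 1, 1)` -/
def wx : List (Fin 6) := [0, 5, 2, 3, 5]

/-- words of the elements of `A` -/
def wA (i j : Fin 3) : List (Fin 6) :=
  pw [0, 1, 4, 3, 5, 2] i ++ pw [0, 2, 4, 3, 2, 1, 5, 3, 4, 3] j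

/-- an element of order 8 -/
def x : G12 := el wx

theorem apply_x (k : ℕ) (i : Fin 12) : (((x ^ k : G12) : P12) i : ℕ) = dg (wt (pw wx k)) i := by
  rw [x, ← el_pw, el_apply]

/-- the eight points of the long cycle -/
def O : Finset (Fin 12) := {0, 5, 6, 9, 1, 10, 2, 4}

theorem fix_iff (i : Fin 12) : ((x ^ 2 : G12) : P12) i = i ↔ i ∉ O := by
  have h : ∀ i : Fin 12, dg (wt (pw wx 2)) i = i ↔ i ∉ O := by decide +kernel
  rw [← h i, ← apply_x, Fin.ext_iff]

theorem orb : ∀ i ∈ O, ∃ k : Fin 12, ((x ^ (k : ℕ) : G12) : P12) 0 = i := by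
  have h : ∀ i ∈ O, ∃ k : Fin 12, dg (wt (pw wx k)) 0 = i := by decide +kernel
  intro i hi
  obtain ⟨k, hk⟩ := h i hi
  exact ⟨k, Fin.ext (by rw [apply_x]; exact hk)⟩

theorem cent_x {c : G12} (h : c * x = x * c) : ∃ k : Fin 12, c = x ^ (k : ℕ) := by
  have h0 : (c : P12) 0 ∈ O := by
    by_contra h0
    rw [← fix_iff] at h0
    have h1 : c * x ^ 2 = x ^ 2 * c := (show Commute c x from h).pow_right 2
    have h2 := congrArg (fun z : G12 => (z : P12) 0) h1
    change (c : P12) (((x ^ 2 : G12) : P12) 0) = ((x ^ 2 : G12) : P12) ((c : P12) 0) at h2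
    rw [h0] at h2
    exact absurd ((fix_iff 0).1 ((c : P12).injective h2)) (by decide)
  obtain ⟨k, hk⟩ := orb _ h0
  refine ⟨k, ?_⟩
  have h1 : (x ^ (k : ℕ))⁻¹ * c = 1 := by
    apply fix_orbit (u := x) (p := 0) _ _ O (by decide) orb
    · have h2 : Commute (x ^ (k : ℕ)) x := Commute.pow_left (Commute.refl x) k
      exact ((h2.inv_left).mul_left (show Commute c x from h))
    · rw [Subgroup.coe_mul, Perm.mul_apply, ← hk, Subgroup.coe_inv]
      exact Perm.inv_eq_iff_eq.mpr rfl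
  exact (inv_mul_eq_one.mp h1).symm

/-- the elementary abelian group of order 9 -/
def A : Subgroup G12 where
  carrier := {g | ∃ i j : Fin 3, g = el (wA i j)}
  one_mem' := ⟨0, 0, rfl⟩
  mul_mem' := by
    rintro _ _ ⟨i, j, rfl⟩ ⟨k, l, rfl⟩
    have h : ∀ i j k l : Fin 3, ∃ m n : Fin 3, wt (wA i j ++ wA k l) = wt (wA m n) := by decide +kernel
    obtain ⟨m, n, h1⟩ := h i j k l
    exact ⟨m, n, by rw [← el_append]; exact el_eq h1⟩
  inv_mem' := by
    rintro _ ⟨i, j, rfl⟩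
    have h : ∀ i j : Fin 3, ∃ m n : Fin 3, wt (wA i j ++ wA m n) = wt [] := by decide +kernel
    obtain ⟨m, n, h1⟩ := h i j
    refine ⟨m, n, ?_⟩
    have h2 := el_eq h1
    rw [el_append, el_nil] at h2
    exact inv_eq_of_mul_eq_one_right h2

theorem A_comm : IsMulCommutative A := by
  refine ⟨⟨?_⟩⟩
  rintro ⟨_, i, j, rfl⟩ ⟨_, k, l, rfl⟩
  have h : ∀ i j k l : Fin 3, wt (wA i j ++ wA k l) = wt (wA k l ++ wA i j) := by decide +kernel
  apply Subtype.ext
  show el (wA i j) * el (wA k l) = el (wA k l) * el (wA i j)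
  rw [← el_append, ← el_append]
  exact el_eq (h i j k l)

theorem A_ne_bot : A ≠ ⊥ := by
  intro h
  have h1 : el (wA 1 0) ∈ A := ⟨1, 0, rfl⟩
  rw [h, Subgroup.mem_bot, ← el_nil, el_eq_iff] at h1
  exact absurd h1 (by decide +kernel)

theorem norm {c : G12} (hc : c ∈ Subgroup.centralizer {x}) {a : G12} (ha : a ∈ A) : c * a * c⁻¹ ∈ A := by
  obtain ⟨k, rfl⟩ := cent_x (Subgroup.mem_centralizer_singleton_iff.1 hc)
  obtain ⟨i, j, rfl⟩ := ha
  have h : ∀ k : Fin 12, ∀ i j : Fin 3, ∃ m n : Fin 3, wt (pw wx k ++ wA i j) = wt (wA m n ++ pw wx k) := by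
    decide +kernel
  obtain ⟨m, n, h1⟩ := h k i j
  refine ⟨m, n, ?_⟩
  have h2 := el_eq h1
  rw [el_append, el_append, el_pw] at h2
  rw [x, h2, mul_inv_cancel_right]

theorem free {c : G12} (hc : c ∈ Subgroup.centralizer {x}) {a : G12} (ha : a ∈ A) (h : c * a = a * c) :
    c = 1 ∨ a = 1 := by
  obtain ⟨k, rfl⟩ := cent_x (Subgroup.mem_centralizer_singleton_iff.1 hc)
  obtain ⟨i, j, rfl⟩ := ha
  have h0 : ∀ k : Fin 12, ∀ i j : Fin 3, wt (pw wx k ++ wA i j) = wt (wA i j ++ pw wx k) →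
      wt (pw wx k) = wt [] ∨ wt (wA i j) = wt [] := by decide +kernel
  rw [x, ← el_pw, ← el_append, ← el_append, el_eq_iff] at h
  rcases h0 k i j h with h1 | h1
  · exact Or.inl (by rw [x, ← el_pw, ← el_nil]; exact el_eq h1)
  · exact Or.inr (by rw [← el_nil]; exact el_eq h1)

end Cfsg.Agent.H635.CJ.MTwelve
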