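import Cfsg.Agent.H430.Conj.Tools
import Cfsg.Agent.H630.CJ.Two
import Cfsg.Agent.H635.CJ.MTwelve
import Cfsg.Agent.H635.CJ.CoThree
import Cfsg.Agent.H635.CJ.JTwo
import Cfsg.Agent.H635.CJ.Ru
import Cfsg.Agent.H408.SporSelf
import Cfsg.Agent.H436.TwoRu
import Cfsg.Agent.NotCT.Orders

/-!
# S4792: the rows `M₁₂`, `J₂`, `Co₃`, `Ru` (helper635)
-/

set_option autoImplicit false

namespace Cfsg.Agent.H635.CJ

open Subgroup Cfsg Cfsg.Agent.H430.Conj Cfsg.Agent.H122
open Cfsg.Agent.H408.SporEng (Self)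

universe u

theorem simple_of_equiv {S : Type*} {G : Type*} [Group S] [Group G] (hs : IsSimpleGroup S) (e : S ≃* G) :
    IsSimpleGroup G :=
  have : Nontrivial G := e.symm.toEquiv.nontrivial
  IsSimpleGroup.isSimpleGroup_of_surjective e.toMonoidHom e.surjective

theorem not_comm_of_card {S : Type*} [Group S] [Finite S] (hs : IsSimpleGroup S) {n : ℕ} (hc : Nat.card S = n)
    (hn : ¬ n.Prime) : ¬ IsMulCommutative S := by
  intro h
  apply hn
  rw [← hc]
  let _ : CommGroup S := { (inferInstance : Group S) with mul_comm := h.is_comm.comm }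
  exact IsSimpleGroup.prime_card

theorem row_m12 {S : Type u} [Group S] [Finite S] (hs : IsSimpleGroup S) (h : Spor.IsoM12 S) : Row S := by
  obtain ⟨e⟩ := h
  have e' : S ≃* CoThreeStd.M12.G12 := e.trans CoThreeStd.M12.equiv
  have hs' := simple_of_equiv hs e'
  refine Row.of_equiv e'.symm (row_of_frob MTwelve.x MTwelve.A MTwelve.A_comm MTwelve.A_ne_bot
    (fun c hc a ha => MTwelve.norm hc ha) (fun c hc a ha h => MTwelve.free hc ha h))

theorem row_co3 {S : Type u} [Group S] [Finite S] (hs : IsSimpleGroup S) (h : Spor.IsoCo3 S) : Row S := by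
  obtain ⟨e⟩ := h
  obtain ⟨f⟩ := LeechPack.X552.isoCo3_G3
  have e' : S ≃* LeechPack.X552.G3 := e.trans f.symm
  have hs' := simple_of_equiv hs e'
  have F := CoThree.frob
  exact Row.of_equiv e'.symm (row_of_frob CoThree.x (cl CoThree.x CoThree.a) F.comm F.ne_bot F.norm F.free)

theorem row_j2 {S : Type u} [Group S] [Finite S] (hs : IsSimpleGroup S) (h : Spor.IsoJ2 S) : Row S := by
  have hc : Nat.card S = 604800 := NotCT.Orders.j2 h
  have hm := (JTwo.minDeg h).mono (b' := 7) (by norm_num)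
  obtain ⟨e⟩ := h
  exact H630.CJ.row_of_minDeg (not_comm_of_card hs hc (by norm_num)) (by norm_num)
    (Self.congr e.symm Cfsg.Agent.H408.SporSelf.j2) hm

theorem row_ru {S : Type u} [Group S] [Finite S] (hs : IsSimpleGroup S) (h : Spor.IsoRu S) : Row S := by
  have hc : Nat.card S = 145926144000 := NotCT.Orders.ru h
  have hm := (Ru.ru h).mono (b' := 29) (by norm_num)
  obtain ⟨e⟩ := h
  obtain ⟨f⟩ := H436.TwoRu.isoH
  have e' : SporadicB.RuOrder.H ≃* S := f.trans e.symm
  have hfin : Finite SporadicB.RuOrder.H := Finite.of_equiv _ e'.symm.toEquiv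
  have hself : Self 29 SporadicB.RuOrder.H := by
    have hcH : Nat.card SporadicB.RuOrder.H = 145926144000 := by rw [Nat.card_congr e'.toEquiv, hc]
    refine Self.of_all (by norm_num) (by rw [hcH]; norm_num) fun x hx => ?_
    have h1 := H436.TwoRu.cent29 x hx
    have h2 : 29 ∣ Nat.card (centralizer ({x} : Set SporadicB.RuOrder.H)) := by
      have h3 : x ∈ centralizer ({x} : Set SporadicB.RuOrder.H) := mem_centralizer_singleton_iff.2 rfl
      have h4 := orderOf_dvd_natCard (⟨x, h3⟩ : centralizer ({x} : Set SporadicB.RuOrder.H))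
      rwa [Subgroup.orderOf_mk, hx] at h4
    exact Nat.dvd_antisymm h1 h2
  exact H630.CJ.row_of_minDeg (not_comm_of_card hs hc (by norm_num)) (by norm_num) (Self.congr e' hself) hm

end Cfsg.Agent.H635.CJ
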