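import Cfsg.Agent.H961.HeLocal
import Cfsg.Agent.H408.SporSelf
import Cfsg.Agent.H121.Chr
import Cfsg.Agent.H630.CJ.Two
import Cfsg.Agent.H430.Conj.Tools
import Cfsg.Agent.NotCT.Orders
import Cfsg.Agent.H635.CJ.Rows

/-!
# S4792: the row `He` (helper635)

The centre of a Sylow 7-subgroup (extraspecial of order 343) is conjugate to its square: every nontrivial complex
representation has degree at least 21.
-/

set_option autoImplicit false
set_option maxRecDepth 100000
set_option linter.unusedSectionVars false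

namespace Cfsg.Agent.H635.CJ.He

open Module Cfsg Cfsg.Agent.H122 Cfsg.Agent.H121.Wt Cfsg.Agent.H121.Chr

section

variable {G : Type*} [Group G] {W : Type} [AddCommGroup W] [Module ℂ W] [FiniteDimensional ℂ W]
  (ρ : Representation ℂ G W)

theorem inj (g : G) : Function.Injective (ρ g) := by
  intro x y h
  have h1 : ∀ z, ρ g⁻¹ (ρ g z) = z := by
    intro z
    have h2 : ρ g⁻¹ * ρ g = 1 := by rw [← map_mul, inv_mul_cancel, map_one]
    exact congrArg (fun f : Module.End ℂ W => f z) h2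
  rw [← h1 x, h, h1]

/-- the action of a cyclic group of order seven -/
def x (w : G) (a : ZMod 7) : G := w ^ a.val

variable {w v s g : G}

theorem x_add (hw : w ^ 7 = 1) (a b : ZMod 7) : x w (a + b) = x w a * x w b := by
  unfold x
  rw [← pow_add, ZMod.val_add, ← pow_eq_pow_mod _ hw]

theorem x_one : x w 1 = w := pow_one w

theorem seven_le (hwv : w * v = v * w) (hws : w * s = s * w) (hsv : s * v = w * v * s)
    {χ : AddChar (ZMod 7) ℂ} (hχ : wt (fun a => ρ (x w a)) χ ≠ ⊥) (h1 : χ 1 ≠ 1) :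
    7 ≤ finrank ℂ (wt (fun a => ρ (x w a)) χ) := by
  set E := wt (fun a => ρ (x w a)) χ with hE
  have hcomm : ∀ {y : G}, w * y = y * w → ∀ z ∈ E, ρ y z ∈ E := by
    intro y hy z hz a
    show ρ (x w a) (ρ y z) = χ a • ρ y z
    have h2 : x w a * y = y * x w a := ((show Commute w y from hy).pow_left a.val).eq
    have h3 : ρ (x w a) (ρ y z) = ρ y (ρ (x w a) z) := by
      have h4 := congrArg (fun g => ρ g z) h2
      simp only [map_mul] at h4
      exact h4
    have h5 : ρ (x w a) z = χ a • z := hz a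
    rw [h3, h5, map_smul]
  have hwE : ∀ z ∈ E, ρ w z = χ 1 • z := by
    intro z hz
    have h2 : ρ (x w 1) z = χ 1 • z := hz 1
    rwa [x_one] at h2
  have hnt : Nontrivial E := Submodule.nontrivial_iff_ne_bot.2 hχ
  let f : Module.End ℂ E := (ρ v).restrict (hcomm hwv)
  let t : Module.End ℂ E := (ρ s).restrict (hcomm hws)
  obtain ⟨μ, hμ⟩ := Module.End.exists_eigenvalue f
  obtain ⟨z, hz⟩ := hμ.exists_hasEigenvector
  have hz0 : z ≠ 0 := hz.2
  have hfz : f z = μ • z := hz.apply_eq_smul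
  have hti : Function.Injective t := by
    intro a b hab
    apply Subtype.ext
    apply inj ρ s
    exact congrArg Subtype.val hab
  have hfi : Function.Injective f := by
    intro a b hab
    apply Subtype.ext
    apply inj ρ v
    exact congrArg Subtype.val hab
  have hμ0 : μ ≠ 0 := by
    intro h
    rw [h, zero_smul] at hfz
    exact hz0 (hfi (by rw [hfz, map_zero]))
  have hft : ∀ y : E, t (f y) = χ 1 • f (t y) := by
    intro y
    apply Subtype.ext
    show ρ s (ρ v (y : W)) = χ 1 • ρ v (ρ s (y : W))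
    have h4 := congrArg (fun g => ρ g (y : W)) hsv
    simp only [map_mul] at h4
    change ρ s (ρ v (y : W)) = ρ w (ρ v (ρ s (y : W))) at h4
    rw [h4]
    exact hwE _ (hcomm hwv _ (hcomm hws _ y.2))
  have hl7 : (χ 1) ^ 7 = 1 := by
    rw [← AddChar.map_nsmul_eq_pow]
    have h7 : (7 : ℕ) • (1 : ZMod 7) = 0 := by decide
    rw [h7, AddChar.map_zero_eq_one]
  have hl0 : χ 1 ≠ 0 := by
    intro h
    rw [h, zero_pow (by norm_num)] at hl7
    exact zero_ne_one hl7
  have key : ∀ i : ℕ, f ((t ^ i) z) = (((χ 1)⁻¹) ^ i * μ) • (t ^ i) z := by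
    intro i
    induction i with
    | zero => rw [pow_zero, pow_zero, one_mul]; exact hfz
    | succ i ih =>
      have h2 : (t ^ (i + 1)) z = t ((t ^ i) z) := by rw [pow_succ']; rfl
      rw [h2]
      have h3 : f (t ((t ^ i) z)) = (χ 1)⁻¹ • t (f ((t ^ i) z)) := by
        rw [hft, smul_smul, inv_mul_cancel₀ hl0, one_smul]
      rw [h3, ih, map_smul, smul_smul, pow_succ']
      congr 1
      ring
  have hne : ∀ i : ℕ, (t ^ i) z ≠ 0 := by
    intro i
    induction i with
    | zero => rw [pow_zero]; exact hz0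
    | succ i ih =>
      have h2 : (t ^ (i + 1)) z = t ((t ^ i) z) := by rw [pow_succ']; rfl
      rw [h2]
      intro h
      exact ih (hti (by rw [h, map_zero]))
  have hord : orderOf ((χ 1)⁻¹) = 7 := by
    have : Fact (Nat.Prime 7) := ⟨by norm_num⟩
    apply orderOf_eq_prime
    · rw [inv_pow, hl7, inv_one]
    · intro h
      exact h1 (inv_eq_one.1 h)
  have hlin := Module.End.eigenvectors_linearIndependent' f (fun i : Fin 7 => ((χ 1)⁻¹) ^ (i : ℕ) * μ)
    (by
      intro i j hij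
      have h2 := mul_right_cancel₀ hμ0 hij
      exact Fin.ext (pow_injOn_Iio_orderOf (by rw [hord]; exact i.2) (by rw [hord]; exact j.2) h2))
    (fun i => (t ^ (i : ℕ)) z)
    (fun i => Module.End.hasEigenvector_iff.2 ⟨Module.End.mem_eigenspace_iff.2 (key i), hne i⟩)
  have h3 := hlin.fintype_card_le_finrank
  rwa [Fintype.card_fin] at h3

theorem shift (hw : w ^ 7 = 1) (hg : g * w = w ^ 2 * g) {χ : AddChar (ZMod 7) ℂ}
    (hχ : wt (fun a => ρ (x w a)) χ ≠ ⊥) : wt (fun a => ρ (x w a)) (χ.mulShift 4) ≠ ⊥ := by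
  obtain ⟨y, hy, hy0⟩ := Submodule.exists_mem_ne_zero_of_ne_bot hχ
  have hgk : ∀ k : ℕ, g * w ^ k = w ^ (2 * k) * g := by
    intro k
    have h1 : SemiconjBy g w (w ^ 2) := hg
    have h2 := h1.pow_right k
    rw [← pow_mul] at h2
    exact h2
  apply Submodule.ne_bot_iff _ |>.2
  refine ⟨ρ g y, ?_, fun h => hy0 (inj ρ g (by rw [h, map_zero]))⟩
  intro a
  show ρ (x w a) (ρ g y) = χ.mulShift 4 a • ρ g y
  have h1 : x w a * g = g * x w (4 * a) := by
    unfold x
    rw [hgk, pow_eq_pow_mod _ hw, pow_eq_pow_mod (2 * _) hw]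
    congr 2
    revert a
    decide
  have h2 := congrArg (fun g => ρ g y) h1
  simp only [map_mul] at h2
  have h3 : ρ (x w a) (ρ g y) = ρ g (ρ (x w (4 * a)) y) := h2
  have h4 : ρ (x w (4 * a)) y = χ (4 * a) • y := hy (4 * a)
  rw [h3, h4, map_smul, AddChar.mulShift_apply]

end

/-- **The bound.** -/
theorem minDeg_seven {G : Type*} [Group G] [IsSimpleGroup G] {w v s g : G} (hw : w ^ 7 = 1) (hw1 : w ≠ 1)
    (hwv : w * v = v * w) (hws : w * s = s * w) (hsv : s * v = w * v * s) (hg : g * w = w ^ 2 * g) :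
    MinDeg G 21 := by
  classical
  intro M _ _ _ ρ hρ
  have hR : IsAct fun a => ρ (x w a) := isAct_of ρ (x_add hw)
  obtain ⟨χ, hχ, hχ1⟩ := exists_wt hR (a := (1 : ZMod 7)) (by
    show ρ (x w 1) ≠ 1
    rw [x_one]
    exact faithful ρ hρ hw1)
  have h2 := shift ρ hw hg hχ
  have h3 := shift ρ hw hg h2
  have hl7 : (χ 1) ^ 7 = 1 := by
    rw [← AddChar.map_nsmul_eq_pow]
    have h7 : (7 : ℕ) • (1 : ZMod 7) = 0 := by decide
    rw [h7, AddChar.map_zero_eq_one]
  have hord : orderOf (χ 1) = 7 := by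
    have : Fact (Nat.Prime 7) := ⟨by norm_num⟩
    exact orderOf_eq_prime hl7 hχ1
  have e2 : χ.mulShift 4 1 = χ 1 ^ 4 := by
    rw [AddChar.mulShift_apply, ← AddChar.map_nsmul_eq_pow]
    congr 1
  have e3 : (χ.mulShift 4).mulShift 4 1 = χ 1 ^ 2 := by
    rw [AddChar.mulShift_apply, AddChar.mulShift_apply, ← AddChar.map_nsmul_eq_pow]
    congr 1
  have n12 : χ 1 ^ 4 ≠ χ 1 := by
    intro h
    have := pow_injOn_Iio_orderOf (x := χ 1) (by rw [hord]; norm_num : 4 < _) (by rw [hord]; norm_num : 1 < _)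
      (by simpa using h)
    omega
  have n13 : χ 1 ^ 2 ≠ χ 1 := by
    intro h
    have := pow_injOn_Iio_orderOf (x := χ 1) (by rw [hord]; norm_num : 2 < _) (by rw [hord]; norm_num : 1 < _)
      (by simpa using h)
    omega
  have n23 : χ 1 ^ 2 ≠ χ 1 ^ 4 := by
    intro h
    have := pow_injOn_Iio_orderOf (x := χ 1) (by rw [hord]; norm_num : 2 < _) (by rw [hord]; norm_num : 4 < _) h
    omega
  have n2 : χ 1 ^ 4 ≠ 1 := by
    intro h
    have := pow_injOn_Iio_orderOf (x := χ 1) (by rw [hord]; norm_num : 4 < _) (by rw [hord]; norm_num : 0 < _)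
      (by simpa using h)
    omega
  have n3 : χ 1 ^ 2 ≠ 1 := by
    intro h
    have := pow_injOn_Iio_orderOf (x := χ 1) (by rw [hord]; norm_num : 2 < _) (by rw [hord]; norm_num : 0 < _)
      (by simpa using h)
    omega
  have d1 := seven_le ρ hwv hws hsv hχ hχ1
  have d2 := seven_le ρ hwv hws hsv h2 (by rw [e2]; exact n2)
  have d3 := seven_le ρ hwv hws hsv h3 (by rw [e3]; exact n3)
  have hcard : ({χ, χ.mulShift 4, (χ.mulShift 4).mulShift 4} : Finset (AddChar (ZMod 7) ℂ)).card = 3 := by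
    rw [Finset.card_eq_three]
    refine ⟨_, _, _, ?_, ?_, ?_, rfl⟩
    · intro h
      apply n12
      rw [← e2, ← h]
    · intro h
      apply n13
      rw [← e3, ← h]
    · intro h
      apply n23
      rw [← e3, ← e2, ← h]
  have h1 := mul_card_le hR {χ, χ.mulShift 4, (χ.mulShift 4).mulShift 4} 7 (by
    intro ξ hξ
    simp only [Finset.mem_insert, Finset.mem_singleton] at hξ
    rcases hξ with rfl | rfl | rfl
    · exact d1
    · exact d2
    · exact d3)
  rw [hcard] at h1
  exact h1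

open Cfsg.Spor.He Cfsg.Agent.SporadicB.HePerm Cfsg.Agent.FixBN.HeStab Cfsg.Agent.KFacts.He.Lv
open Cfsg.Agent.H961.HeLocal

/-- the element mapping `w` to its square -/
def Wg : List Gen := [.f, .g, .d, .c, .g, .e, .d, .c, .b, .c, .d, .e, .c, .d, .g, .c, .d, .f]

theorem rel_g : wd Wg * wd Ww = wd Ww ^ 2 * wd Wg := by
  have h := eq_of_chkB (v := Wg ++ Ww) (w := pw Ww 2 ++ Wg) (by decide +kernel)
  rwa [wd_append, wd_append, wd_pw] at h

theorem minDeg [IsSimpleGroup Cfsg.Spor.He] : MinDeg Cfsg.Spor.He 21 :=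
  minDeg_seven rel_w7 rel_w1 rel_wv rel_ws rel_sv rel_g

end Cfsg.Agent.H635.CJ.He

namespace Cfsg.Agent.H635.CJ

open Cfsg Cfsg.Agent.H430.Conj Cfsg.Agent.H122

universe u

/-- **S4792, `He`.** -/
theorem row_he {S : Type u} [Group S] [Finite S] (hs : IsSimpleGroup S) (h : Spor.IsoHe S) : Row S := by
  obtain ⟨e⟩ := h
  have hs' : IsSimpleGroup Cfsg.Spor.He := simple_of_equiv hs e
  refine Row.of_equiv e.symm (H630.CJ.row_of_minDeg (p := 17) (not_comm_of_card hs' Cfsg.Agent.FixBN.HeStab.card_he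
    (by norm_num)) (by norm_num) Cfsg.Agent.H408.SporSelf.he (He.minDeg.mono (by norm_num)))

end Cfsg.Agent.H635.CJ
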