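import Mathlib.GroupTheory.OrderOfElement
import Mathlib.Algebra.Group.Subgroup.Lattice
import Mathlib.GroupTheory.Submonoid.Centralizer
import Mathlib.GroupTheory.Subgroup.Centralizer
import Mathlib.Tactic

/-!
# Abelian subgroups generated by the conjugates of an element under a cyclic group (helper635)
-/

set_option autoImplicit false

namespace Cfsg.Agent.H635.CJ

variable {G : Type*} [Group G]

/-- the subgroup generated by the conjugates of `a` under `⟨x⟩` -/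
def cl (x a : G) : Subgroup G := Subgroup.closure {g | ∃ k : ℤ, g = x ^ k * a * (x ^ k)⁻¹}

theorem mem_cl (x a : G) : a ∈ cl x a := Subgroup.subset_closure ⟨0, by simp⟩

theorem cl_norm {x a g : G} (k : ℤ) (hg : g ∈ cl x a) : x ^ k * g * (x ^ k)⁻¹ ∈ cl x a := by
  unfold cl at hg ⊢
  induction hg using Subgroup.closure_induction with
  | mem y hy =>
    obtain ⟨l, rfl⟩ := hy
    refine Subgroup.subset_closure ⟨k + l, ?_⟩
    rw [zpow_add]
    group
  | one => rw [mul_one, mul_inv_cancel]; exact Subgroup.one_mem _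
  | mul y z _ _ hy hz =>
    have h : x ^ k * (y * z) * (x ^ k)⁻¹ = (x ^ k * y * (x ^ k)⁻¹) * (x ^ k * z * (x ^ k)⁻¹) := by group
    rw [h]
    exact Subgroup.mul_mem _ hy hz
  | inv y _ hy =>
    have h : x ^ k * y⁻¹ * (x ^ k)⁻¹ = (x ^ k * y * (x ^ k)⁻¹)⁻¹ := by group
    rw [h]
    exact Subgroup.inv_mem _ hy

/-- it is enough to consider the exponents below the order -/
theorem comm_all {x a : G} {n : ℕ} (hn : n ≠ 0) (hx : x ^ n = 1)
    (h : ∀ k < n, a * (x ^ k * a * (x ^ k)⁻¹) = (x ^ k * a * (x ^ k)⁻¹) * a) (k : ℤ) :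
    a * (x ^ k * a * (x ^ k)⁻¹) = (x ^ k * a * (x ^ k)⁻¹) * a := by
  have hn' : (n : ℤ) ≠ 0 := by exact_mod_cast hn
  have h1 : x ^ k = x ^ (k % n).toNat := by
    have h2 : ((k % n).toNat : ℤ) = k % n := Int.toNat_of_nonneg (Int.emod_nonneg _ hn')
    rw [← zpow_natCast x (k % n).toNat, h2]
    have h3 : k = k % n + n * (k / n) := (Int.emod_add_mul_ediv k n).symm
    conv_lhs => rw [h3, zpow_add, zpow_mul, zpow_natCast, hx, one_zpow, mul_one]
  rw [h1]
  apply h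
  have h4 : k % n < n := Int.emod_lt_of_pos _ (by omega)
  have h5 : 0 ≤ k % n := Int.emod_nonneg _ hn'
  omega

theorem cl_comm {x a : G} (h : ∀ k : ℤ, a * (x ^ k * a * (x ^ k)⁻¹) = (x ^ k * a * (x ^ k)⁻¹) * a) :
    IsMulCommutative (cl x a) := by
  apply Subgroup.isMulCommutative_closure
  rintro _ ⟨k, rfl⟩ _ ⟨l, rfl⟩
  have h1 := h (l - k)
  calc x ^ k * a * (x ^ k)⁻¹ * (x ^ l * a * (x ^ l)⁻¹)
      = x ^ k * (a * (x ^ (l - k) * a * (x ^ (l - k))⁻¹)) * (x ^ k)⁻¹ := by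
        rw [zpow_sub]; group
    _ = x ^ k * ((x ^ (l - k) * a * (x ^ (l - k))⁻¹) * a) * (x ^ k)⁻¹ := by rw [h1]
    _ = _ := by rw [zpow_sub]; group

theorem cl_pow {x a : G} (h : IsMulCommutative (cl x a)) {p : ℕ} (ha : a ^ p = 1) {g : G} (hg : g ∈ cl x a) :
    g ^ p = 1 := by
  have hc : ∀ y ∈ cl x a, ∀ z ∈ cl x a, y * z = z * y := fun y hy z hz =>
    congrArg Subtype.val (h.is_comm.comm (⟨y, hy⟩ : cl x a) ⟨z, hz⟩)
  have key : ∀ g (hg : g ∈ Subgroup.closure {g | ∃ k : ℤ, g = x ^ k * a * (x ^ k)⁻¹}), g ^ p = 1 := by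
    intro g hg
    induction hg using Subgroup.closure_induction with
    | mem y hy =>
      obtain ⟨l, rfl⟩ := hy
      rw [conj_pow, ha, mul_one, mul_inv_cancel]
    | one => rw [one_pow]
    | mul y z hy' hz' hy hz =>
      rw [(show Commute y z from hc y hy' z hz').mul_pow, hy, hz, one_mul]
    | inv y _ hy => rw [inv_pow, hy, inv_one]
  exact key g hg

/-- an element commuting with `x` and inverting `a` inverts everything -/
theorem cl_inv {x a t : G} (h : IsMulCommutative (cl x a)) (ht : t * x = x * t) (hta : t * a * t⁻¹ = a⁻¹) {g : G}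
    (hg : g ∈ cl x a) : t * g * t⁻¹ = g⁻¹ := by
  have hc : ∀ y ∈ cl x a, ∀ z ∈ cl x a, y * z = z * y := fun y hy z hz =>
    congrArg Subtype.val (h.is_comm.comm (⟨y, hy⟩ : cl x a) ⟨z, hz⟩)
  have key : ∀ g (hg : g ∈ Subgroup.closure {g | ∃ k : ℤ, g = x ^ k * a * (x ^ k)⁻¹}), t * g * t⁻¹ = g⁻¹ := by
    intro g hg
    induction hg using Subgroup.closure_induction with
    | mem y hy =>
      obtain ⟨l, rfl⟩ := hy
      have h1 : t * x ^ l = x ^ l * t := (show Commute t x from ht).zpow_right l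
      calc t * (x ^ l * a * (x ^ l)⁻¹) * t⁻¹ = (t * x ^ l) * a * (t * x ^ l)⁻¹ := by group
        _ = x ^ l * (t * a * t⁻¹) * (x ^ l)⁻¹ := by rw [h1]; group
        _ = (x ^ l * a * (x ^ l)⁻¹)⁻¹ := by rw [hta]; group
    | one => simp
    | mul y z hy' hz' hy hz =>
      calc t * (y * z) * t⁻¹ = (t * y * t⁻¹) * (t * z * t⁻¹) := by group
        _ = (z * y)⁻¹ := by rw [hy, hz, mul_inv_rev]
        _ = (y * z)⁻¹ := by rw [hc y hy' z hz']
    | inv y _ hy =>
      calc t * y⁻¹ * t⁻¹ = (t * y * t⁻¹)⁻¹ := by group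
        _ = y⁻¹⁻¹ := by rw [hy]
  exact key g hg

/-- **The data of tool F**: a Frobenius group `A C_G(x)` with abelian kernel `A`. -/
structure Frob (x : G) (A : Subgroup G) : Prop where
  comm : IsMulCommutative A
  ne_bot : A ≠ ⊥
  norm : ∀ c ∈ Subgroup.centralizer {x}, ∀ a ∈ A, c * a * c⁻¹ ∈ A
  free : ∀ c ∈ Subgroup.centralizer {x}, ∀ a ∈ A, c * a = a * c → c = 1 ∨ a = 1

theorem frob_of {x a : G} (ha : a ≠ 1) (h : ∀ k : ℤ, a * (x ^ k * a * (x ^ k)⁻¹) = (x ^ k * a * (x ^ k)⁻¹) * a)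
    (hC : ∀ c, c * x = x * c → c ∈ Subgroup.zpowers x)
    (hf : ∀ k : ℤ, ∀ g ∈ cl x a, x ^ k * g = g * x ^ k → x ^ k = 1 ∨ g = 1) : Frob x (cl x a) where
  comm := cl_comm h
  ne_bot := by
    intro h1
    have h2 := mem_cl x a
    rw [h1, Subgroup.mem_bot] at h2
    exact ha h2
  norm := by
    intro c hc g hg
    obtain ⟨k, rfl⟩ := hC c (Subgroup.mem_centralizer_singleton_iff.1 hc)
    exact cl_norm k hg
  free := by
    intro c hc g hg hcg
    obtain ⟨k, rfl⟩ := hC c (Subgroup.mem_centralizer_singleton_iff.1 hc)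
    exact hf k g hg hcg

end Cfsg.Agent.H635.CJ
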